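import Groth.Agent.KEulerLib.Samuel
import Groth.Agent.TorRegLib.Basic
import Groth.Agent.HSLib.Mult
import Groth.Prelude.Def_IntMult

/-!
# Samuel limits, Koszul Euler characteristics and the `Tor` formula for regular sequences
-/

set_option autoImplicit false
set_option linter.unusedSectionVars false
set_option linter.style.haveILetI false
set_option backward.isDefEq.respectTransparency false
universe u

open CategoryTheory CategoryTheory.Limits MonoidalCategory Filter Topology
open Groth.Agent.KEulerLib Groth.Agent.TorLib Groth.Agent.TorRegLib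

namespace Groth.Agent.TorKEulerLib

variable {A : Type u} [CommRing A] [IsNoetherianRing A]

/-- Serre's formula: the Samuel limit in the number of elements is the Koszul Euler characteristic. -/
theorem tendsto_colen (M : Type u) [AddCommGroup M] [Module A M] [Module.Finite A M] (l : List A) (hd : Dom l M) :
    Tendsto (fun t : ℕ => (l.length.factorial : ℝ) *
        ((Module.length A (M ⧸ (Ideal.ofList l ^ t • (⊤ : Submodule A M)))).toNat : ℝ) / (t : ℝ) ^ l.length)
      atTop (𝓝 (E l.reverse M : ℝ)) := by
  set d := l.length with hdl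
  have hI : Ideal.ofList l = Ideal.span (Set.range l.get) := by
    rw [Ideal.ofList, Set.range_list_get]
  have hmax : ∀ p ∈ Module.support A M, Ideal.ofList l ≤ p.asIdeal → p.asIdeal.IsMaximal := hd
  obtain ⟨P, hdeg, hP⟩ := HSLib.exists_isHSPoly_span (M := M) l.get (fun t => by
    rw [← hI]; exact HSLib.length_pow_ne_top hmax t)
  rw [← hI] at hP
  obtain ⟨t₀, ht₀⟩ := exists_chi_eq_sum (M := ModuleCat.of A M) l hd
  obtain ⟨N₀, hN₀⟩ := Filter.eventually_atTop.mp hP
  have hEq := ((finsum_E (ModuleCat.of A M) l [] (by rw [List.append_nil]; exact hd)).trans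
      (by rw [List.append_nil])).symm.trans (ht₀ (t₀ + N₀ + d) (by omega))
  have hQ : ((E l.reverse M : ℤ) : ℚ) = d.factorial * P.coeff d := by
    rw [hEq, Int.cast_sum, ← sum_choose_eval P hdeg ((t₀ + N₀ + d : ℕ) : ℚ)]
    refine Finset.sum_congr rfl fun r hr => ?_
    have hr' : r ≤ d := Nat.lt_succ_iff.mp (Finset.mem_range.mp hr)
    push_cast
    rw [hN₀ (t₀ + N₀ + d - r) (by omega), Nat.cast_sub (by omega)]
    push_cast
    ring
  rw [← Rat.cast_intCast (α := ℝ), hQ, Rat.cast_mul, Rat.cast_natCast]
  exact HSLib.tendsto_eSeq_of_poly hP hdeg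

variable {N : ModuleCat.{u} A} [Module.Finite A N] (P : ProjectiveResolution N)

/-- `Tor_i(A/(l), N)`. -/
noncomputable abbrev T (l : List A) (i : ℕ) : ModuleCat.{u} A := (cx P (ModuleCat.of A (A ⧸ Ideal.ofList l))).homology i

theorem step_shortExact {t : List A} {f : A} (h : RingTheory.Sequence.IsWeaklyRegular A (t ++ [f])) :
    ∃ (hle : Ideal.ofList t ≤ Ideal.ofList (t ++ [f])) (hr : f ∈ Ideal.ofList (t ++ [f])),
      (stepSeq hle hr).ShortExact := by
  have hsup : Ideal.ofList (t ++ [f]) = Ideal.ofList t ⊔ Ideal.span {f} := by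
    rw [Ideal.ofList_append, Ideal.ofList_singleton]
  refine ⟨hsup ▸ le_sup_left, hsup ▸ Submodule.mem_sup_right (Ideal.mem_span_singleton_self _),
    stepSeq_shortExact _ _ hsup.le ?_⟩
  have := h.regular_mod_prev t.length (by simp)
  rw [List.take_left, List.getElem_concat_length rfl, smul_eq_mul, Ideal.mul_top] at this
  exact this

theorem smul_T_eq_zero {l : List A} {a : A} (ha : a ∈ Ideal.ofList l) (i : ℕ) (y : T P l i) : a • y = 0 := by
  have h0 : a • 𝟙 (ModuleCat.of A (A ⧸ Ideal.ofList l)) = 0 := ModuleCat.hom_ext (LinearMap.ext fun x => by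
    obtain ⟨x, rfl⟩ := Ideal.Quotient.mk_surjective x
    show a • Ideal.Quotient.mk (Ideal.ofList l) x = 0
    rw [Algebra.smul_def, Ideal.Quotient.algebraMap_eq, ← map_mul]
    exact Ideal.Quotient.eq_zero_iff_mem.2 (Ideal.mul_mem_right _ _ ha))
  have h1 := homologyMap_cxMap_smul P (ModuleCat.of A (A ⧸ Ideal.ofList l)) a i
  have h2 : cxMap P (0 : ModuleCat.of A (A ⧸ Ideal.ofList l) ⟶ ModuleCat.of A (A ⧸ Ideal.ofList l)) = 0 := by
    ext j : 1
    exact MonoidalPreadditive.zero_whiskerRight
  rw [h0, h2, HomologicalComplex.homologyMap_zero] at h1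
  exact (ConcreteCategory.congr_hom h1 y).symm

/-- Finiteness, vanishing beyond the length, and supports. -/
theorem T_props : ∀ l : List A, RingTheory.Sequence.IsWeaklyRegular A l → ∀ i,
    Module.Finite A (T P l i) ∧ (l.length < i → Subsingleton (T P l i)) ∧
      Module.support A (T P l i) ⊆ Module.support A N := by
  intro l
  induction l using List.reverseRecOn with
  | nil =>
    intro _ i
    rcases i with - | i
    · refine ⟨Module.Finite.equiv (h0Equiv P _).symm, fun h => absurd h (by simp), ?_⟩
      rw [(h0Equiv P _).support_eq]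
      exact Module.support_subset_of_surjective _ (Submodule.mkQ_surjective _)
    · haveI : Module.Flat A (ModuleCat.of A (A ⧸ Ideal.ofList ([] : List A))) :=
        Module.Flat.of_linearEquiv (Submodule.quotEquivOfEqBot (Ideal.ofList ([] : List A)) (by simp))
      haveI := ModuleCat.subsingleton_of_isZero ((HomologicalComplex.exactAt_iff_isZero_homology _ _).mp
        (exactAt_succ_of_flat P (ModuleCat.of A (A ⧸ Ideal.ofList ([] : List A))) i))
      refine ⟨inferInstance, fun _ => inferInstance, ?_⟩
      rw [Module.support_eq_empty_iff.2 inferInstance]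
      exact Set.empty_subset _
  | append_singleton t f ih =>
    intro hreg i
    obtain ⟨hle, hr, hS⟩ := step_shortExact hreg
    have hreg' : RingTheory.Sequence.IsWeaklyRegular A t :=
      ((RingTheory.Sequence.isWeaklyRegular_append_iff A t [f]).1 hreg).1
    rcases i with - | i
    · refine ⟨Module.Finite.equiv (h0Equiv P _).symm, fun h => absurd h (by simp), ?_⟩
      rw [(h0Equiv P _).support_eq]
      exact Module.support_subset_of_surjective _ (Submodule.mkQ_surjective _)
    · haveI := (ih hreg' (i + 1)).1
      haveI := (ih hreg' i).1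
      have hex : Function.Exact (HomologicalComplex.homologyMap (cxMap P (stepSeq hle hr).g) (i + 1)).hom
          ((cxSeq_shortExact P hS).δ (i + 1) i (by simp)).hom :=
        (ShortComplex.ShortExact.moduleCat_exact_iff_function_exact _).mp
          ((cxSeq_shortExact P hS).homology_exact₃ (i + 1) i (by simp))
      refine ⟨finite_succ P hS i, fun h => ?_, ?_⟩
      · rw [List.length_append, List.length_singleton] at h
        haveI := (ih hreg' (i + 1)).2.1 (by omega)
        haveI := (ih hreg' i).2.1 (by omega)
        refine subsingleton_of_forall_eq 0 fun z => ?_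
        obtain ⟨w, hw⟩ := (hex z).1 (Subsingleton.elim (α := T P t i) _ _)
        rw [← hw, Subsingleton.elim (α := T P t (i + 1)) w 0]
        exact map_zero _
      · let δ' : T P (t ++ [f]) (i + 1) →ₗ[A] T P t i := ((cxSeq_shortExact P hS).δ (i + 1) i (by simp)).hom
        let q : T P t (i + 1) →ₗ[A] T P (t ++ [f]) (i + 1) :=
          (HomologicalComplex.homologyMap (cxMap P (stepSeq hle hr).g) (i + 1)).hom
        intro p hp
        by_contra hpN
        have h1 : p ∉ Module.support A (T P t (i + 1)) := fun h => hpN ((ih hreg' (i + 1)).2.2 h)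
        have h2 : p ∉ Module.support A (T P t i) := fun h => hpN ((ih hreg' i).2.2 h)
        rw [Module.notMem_support_iff'] at h1 h2
        refine (Module.mem_support_iff'.1 hp).elim fun z hz => ?_
        obtain ⟨a, ha, hza⟩ := h2 (δ' z)
        obtain ⟨w, hw⟩ := (hex (a • z)).1 (show δ' (a • z) = 0 by rw [map_smul, hza])
        obtain ⟨b, hb, hwb⟩ := h1 w
        refine hz (b * a) (fun h => (p.isPrime.mem_or_mem h).elim hb ha) ?_
        rw [mul_smul]
        show b • a • z = 0
        rw [← show q w = a • z from hw, ← map_smul, hwb, map_zero]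

theorem dom_T {l r : List A} (hreg : RingTheory.Sequence.IsWeaklyRegular A l) (h : Dom (l ++ r) (N : Type u)) (i : ℕ) :
    Dom r (T P l i) := fun p hp hr => by
  haveI := (T_props P l hreg i).1
  refine h p ((T_props P l hreg i).2.2 hp) (ofList_le_iff.mpr fun a ha => ?_)
  rcases List.mem_append.mp ha with ha | ha
  · exact mem_of_mem_support_of_smul_eq_zero (fun y => smul_T_eq_zero P (Ideal.subset_span ha) i y) hp
  · exact ofList_le_iff.mp hr a ha

theorem exact_f {t : List A} {f : A} (hreg : RingTheory.Sequence.IsWeaklyRegular A (t ++ [f])) (i : ℕ) :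
    ∃ q : T P t i →ₗ[A] T P (t ++ [f]) i, LinearMap.ker q = srange f (T P t i) ∧
      (∀ (_ : i = 0), Function.Surjective q) ∧
      ∀ j, j + 1 = i → ∃ δ : T P (t ++ [f]) i →ₗ[A] T P t j, Function.Exact q δ ∧ LinearMap.range δ = sker f (T P t j) := by
  obtain ⟨hle, hr, hS⟩ := step_shortExact hreg
  let q : T P t i →ₗ[A] T P (t ++ [f]) i :=
    (HomologicalComplex.homologyMap (cxMap P (stepSeq hle hr).g) i).hom
  have hsm : ∀ k (x : T P t k),
      (HomologicalComplex.homologyMap (cxMap P (stepSeq hle hr).f) k).hom x = f • x := fun k x =>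
    ConcreteCategory.congr_hom (homologyMap_cxMap_smul P (ModuleCat.of A (A ⧸ Ideal.ofList t)) f k) x
  refine ⟨q, ?_, ?_, ?_⟩
  · have h2 : Function.Exact (HomologicalComplex.homologyMap (cxMap P (stepSeq hle hr).f) i).hom q :=
      (ShortComplex.ShortExact.moduleCat_exact_iff_function_exact _).mp ((cxSeq_shortExact P hS).homology_exact₂ i)
    rw [h2.linearMap_ker_eq]
    ext y
    exact ⟨fun ⟨x, hx⟩ => ⟨x, (hsm i x).symm.trans hx⟩, fun ⟨x, hx⟩ => ⟨x, (hsm i x).trans hx⟩⟩
  · rintro rfl
    haveI : Epi (cxMap P (stepSeq hle hr).g) := (cxSeq_shortExact P hS).epi_g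
    exact (ModuleCat.epi_iff_surjective _).1
      (HomologicalComplex.epi_homologyMap_of_epi_of_not_rel (cxMap P (stepSeq hle hr).g) 0 (fun k => by simp))
  · rintro j rfl
    refine ⟨((cxSeq_shortExact P hS).δ (j + 1) j (by simp)).hom,
      (ShortComplex.ShortExact.moduleCat_exact_iff_function_exact _).mp
        ((cxSeq_shortExact P hS).homology_exact₃ (j + 1) j (by simp)), ?_⟩
    have h1 : Function.Exact ((cxSeq_shortExact P hS).δ (j + 1) j (by simp)).hom
        (HomologicalComplex.homologyMap (cxMap P (stepSeq hle hr).f) j).hom :=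
      (ShortComplex.ShortExact.moduleCat_exact_iff_function_exact _).mp
        ((cxSeq_shortExact P hS).homology_exact₁ (j + 1) j (by simp))
    rw [← h1.linearMap_ker_eq]
    ext y
    exact ⟨fun h => (hsm j y).symm.trans h, fun h => (hsm j y).trans h⟩

/-- The `Tor` Euler characteristic of a regular sequence is the iterated difference. -/
theorem sum_E : ∀ l : List A, RingTheory.Sequence.IsWeaklyRegular A l → ∀ r : List A, Dom (l ++ r) (N : Type u) →
    ∑ i ∈ Finset.range (l.length + 1), (-1 : ℤ) ^ i * E r (T P l i) = E (l ++ r) (N : Type u) := by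
  intro l
  induction l using List.reverseRecOn with
  | nil =>
    intro _ r _
    rw [List.length_nil, Finset.sum_range_one, pow_zero, one_mul, List.nil_append]
    exact E_congr r ((h0Equiv P _).trans (Submodule.quotEquivOfEqBot _ (by simp)))
  | append_singleton t f ih =>
    intro hreg r hd
    have hreg' : RingTheory.Sequence.IsWeaklyRegular A t :=
      ((RingTheory.Sequence.isWeaklyRegular_append_iff A t [f]).1 hreg).1
    have hd' : Dom (t ++ f :: r) (N : Type u) := by rwa [List.append_assoc, List.singleton_append] at hd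
    have hih := ih hreg' (f :: r) hd'
    rw [List.append_assoc, List.singleton_append, ← hih]
    set c : ℕ → ℤ := fun i => E r (T P t i ⧸ srange f (T P t i)) with hc
    set k : ℕ → ℤ := fun i => E r (sker f (T P t i)) with hk
    have h0 : E r (T P (t ++ [f]) 0) = c 0 := by
      obtain ⟨q, hq, hsurj, -⟩ := exact_f P hreg 0
      exact (E_congr r ((Submodule.quotEquivOfEq _ _ hq.symm).trans (q.quotKerEquivOfSurjective (hsurj rfl)))).symm
    have hsucc : ∀ i, E r (T P (t ++ [f]) (i + 1)) = c (i + 1) + k i := fun i => by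
      obtain ⟨q, hq, -, hδ⟩ := exact_f P hreg (i + 1)
      obtain ⟨δ, hex, hrange⟩ := hδ i rfl
      haveI := (T_props P _ hreg (i + 1)).1
      rw [E_add (N₂ := T P (t ++ [f]) (i + 1)) (dom_T P hreg hd _) (Submodule.liftQ _ q hq.ge) δ.rangeRestrict ?_
        (LinearMap.surjective_rangeRestrict δ) ?_, E_congr r (LinearEquiv.ofEq _ _ hrange)]
      · rw [← LinearMap.ker_eq_bot, Submodule.ker_liftQ, hq, Submodule.mkQ_map_self]
      · rw [LinearMap.exact_iff, LinearMap.ker_rangeRestrict, Submodule.range_liftQ]
        exact hex.linearMap_ker_eq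
    have hlast : c (t.length + 1) = 0 := by
      haveI := (T_props P t hreg' (t.length + 1)).2.1 (Nat.lt_succ_self _)
      haveI : Subsingleton (T P t (t.length + 1) ⧸ srange f (T P t (t.length + 1))) :=
        (Submodule.mkQ_surjective _).subsingleton
      exact E_subsingleton r _
    have hrhs : ∀ i, E (f :: r) (T P t i) = c i - k i := fun i => E_cons f r _
    have hcsum : c 0 + ∑ i ∈ Finset.range (t.length + 1), (-1 : ℤ) ^ (i + 1) * c (i + 1) =
        ∑ i ∈ Finset.range (t.length + 1), (-1 : ℤ) ^ i * c i := by
      have h1 := Finset.sum_range_succ' (fun i => (-1 : ℤ) ^ i * c i) (t.length + 1)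
      rw [Finset.sum_range_succ] at h1
      simp only [hlast, mul_zero, add_zero, pow_zero, one_mul] at h1
      linarith
    rw [List.length_append, List.length_singleton, Finset.sum_range_succ', h0, pow_zero, one_mul]
    simp only [hsucc, hrhs, mul_add, mul_sub, Finset.sum_add_distrib, Finset.sum_sub_distrib]
    rw [add_right_comm, add_comm _ (c 0), hcsum]
    simp only [pow_succ, mul_neg, mul_one, neg_mul, Finset.sum_neg_distrib]
    ring

/-- `χ(A/(l), M) = E l M` for a weakly regular sequence `l`. -/
theorem chi_eq (l : List A) (hreg : RingTheory.Sequence.IsWeaklyRegular A l) (M : Type u) [AddCommGroup M] [Module A M]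
    [Module.Finite A M] (hd : Dom l M) : IntMult.chi A (A ⧸ Ideal.ofList l) M = E l M := by
  let P := projectiveResolution (ModuleCat.of A M)
  have hlen : ∀ i, Module.length A (DRing.Tor A i (A ⧸ Ideal.ofList l) M) = Module.length A (T P l i) := fun i =>
    (torIso P (ModuleCat.of A (A ⧸ Ideal.ofList l)) i).toLinearEquiv.length_eq
  rw [IntMult.chi, finsum_eq_sum_of_support_subset _ (s := Finset.range (l.length + 1)) (fun i hi => by
    rw [Finset.coe_range, Set.mem_Iio]
    by_contra hlt
    haveI := (T_props P l hreg i).2.1 (by omega)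
    exact hi (by simp only [hlen, Module.length_eq_zero, ENat.toNat_zero, Nat.cast_zero, mul_zero]))]
  have h := sum_E P l hreg [] (by rw [List.append_nil]; exact hd)
  rw [List.append_nil] at h
  refine Eq.trans (Finset.sum_congr rfl fun i _ => ?_) h
  rw [hlen, E_nil]

end Groth.Agent.TorKEulerLib
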